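import Groth.Agent.Lib.VarDim.Alg
import Groth.Agent.Lib.CurveCartier25.RelDim
import Mathlib

/-! # Bertini: ingredients for hyperplane sections of affine varieties -/

set_option autoImplicit false
set_option linter.style.haveILetI false
universe u

open TensorProduct KaehlerDifferential

namespace Groth.Agent.BertiniAff5

variable {k : Type u} [Field k] {A : Type u} [CommRing A] [Algebra k A] [Algebra.FiniteType k A]

/-- In an equidimensional algebra, every prime has height at most the dimension. -/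
theorem ringKrullDim_le {r : ℕ} (hdim : ∀ P ∈ minimalPrimes A, ringKrullDim (A ⧸ P) = r) :
    ringKrullDim A ≤ r := by
  refine iSup_le fun s => ?_
  obtain ⟨P, hP, hPs⟩ := Ideal.exists_minimalPrimes_le (bot_le : ⊥ ≤ s.head.asIdeal)
  let t : LTSeries (PrimeSpectrum.zeroLocus (P : Set A)) :=
    { length := s.length
      toFun := fun i => ⟨s i, fun a ha => s.monotone (Fin.zero_le i) (hPs ha)⟩
      step := fun i => s.step i }
  have := Order.LTSeries.length_le_krullDim t
  rw [← ringKrullDim_quotient, hdim P hP] at this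
  exact this

variable (k) in
include k in
/-- In an equidimensional algebra, every maximal ideal has height equal to the dimension. -/
theorem height_maximal {r : ℕ} (hdim : ∀ P ∈ minimalPrimes A, ringKrullDim (A ⧸ P) = r)
    (M : Ideal A) [M.IsMaximal] : M.height = r := by
  refine le_antisymm ?_ ?_
  · exact WithBot.coe_le_coe.1
      ((Ideal.height_le_ringKrullDim_of_ne_top (Ideal.IsPrime.ne_top inferInstance)).trans (ringKrullDim_le hdim))
  obtain ⟨P, hP, hPM⟩ := Ideal.exists_minimalPrimes_le (bot_le : ⊥ ≤ M)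
  haveI : P.IsPrime := hP.1.1
  let π := Ideal.Quotient.mk P
  haveI hmax : (M.map π).IsMaximal :=
    Ideal.IsMaximal.map_of_surjective_of_ker_le Ideal.Quotient.mk_surjective (by rwa [Ideal.mk_ker])
  let q : PrimeSpectrum (A ⧸ P) := ⟨M.map π, inferInstance⟩
  have h1 := VarDim.height_add_coheight k (A ⧸ P) q
  have h2 : Order.coheight q = 0 := by
    rw [Order.coheight_eq_zero]
    intro q' hq'
    exact (hmax.eq_of_le q'.2.ne_top hq').ge
  rw [h2, add_zero, hdim P hP] at h1
  have h3 : Order.height q ≤ Order.height (⟨M, inferInstance⟩ : PrimeSpectrum A) := by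
    have hc : PrimeSpectrum.comap π q = ⟨M, inferInstance⟩ := PrimeSpectrum.ext (by
      show (M.map π).comap π = M
      rw [Ideal.comap_map_of_surjective _ Ideal.Quotient.mk_surjective, ← RingHom.ker_eq_comap_bot,
        Ideal.mk_ker, sup_eq_left.2 hPM])
    rw [← hc]
    exact Order.height_le_height_apply_of_strictMono _
      (Monotone.strictMono_of_injective (f := PrimeSpectrum.comap π) (fun _ _ h => Ideal.comap_mono h)
        (PrimeSpectrum.comap_injective_of_surjective π Ideal.Quotient.mk_surjective)) q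
  rw [← PrimeSpectrum.height_eq_orderHeight ⟨M, inferInstance⟩] at h3
  calc (r : ℕ∞) = Order.height q := (WithBot.coe_injective h1).symm
    _ ≤ _ := h3

/-- A chart of an equidimensional algebra: dimension and rank of differentials. -/
theorem chart_dim {r : ℕ} (hdim : ∀ P ∈ minimalPrimes A, ringKrullDim (A ⧸ P) = r)
    (g : A) {B : Type u} [CommRing B] [Algebra k B] [Algebra A B] [IsScalarTower k A B] [IsLocalization.Away g B]
    [Nontrivial B] (m : ℕ) [Algebra.IsStandardSmoothOfRelativeDimension m k B] : m = r := by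
  haveI : Algebra.FiniteType A B := IsLocalization.finiteType_of_monoid_fg (Submonoid.powers g) B
  haveI : Algebra.FiniteType k B := Algebra.FiniteType.trans (S := A) inferInstance inferInstance
  obtain ⟨M, hM⟩ := Ideal.exists_maximal B
  have h1 := CurveCartier25.ringKrullDim_atPrime_of_standardSmooth k B m M
  rw [IsLocalization.AtPrime.ringKrullDim_eq_height M, ← IsLocalization.height_under (Submonoid.powers g) M] at h1
  haveI : (M.under A).IsMaximal := by
    letI : Field (B ⧸ M) := Ideal.Quotient.field M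
    haveI : Module.Finite k (B ⧸ M) := finite_of_finite_type_of_isJacobsonRing k (B ⧸ M)
    haveI : Module.Finite A (B ⧸ M) := Module.Finite.of_restrictScalars_finite k A (B ⧸ M)
    have := Ideal.isMaximal_comap_of_isIntegral_of_isMaximal (R := A) (⊥ : Ideal (B ⧸ M))
    rwa [← RingHom.ker_eq_comap_bot, IsScalarTower.algebraMap_eq A B (B ⧸ M),
      ← RingHom.comap_ker, Ideal.Quotient.algebraMap_eq, Ideal.mk_ker] at this
  rw [height_maximal k hdim] at h1
  exact_mod_cast h1.symm

omit [Algebra.FiniteType k A] in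
/-- Differentials of generators span. -/
theorem span_D {n : ℕ} (x : Fin n → A)
    (hx : Function.Surjective (MvPolynomial.aeval x : MvPolynomial (Fin n) k →ₐ[k] A)) :
    Submodule.span A (Set.range fun i => D k A (x i)) = ⊤ := by
  rw [eq_top_iff, ← span_range_derivation, Submodule.span_le]
  rintro _ ⟨a, rfl⟩
  obtain ⟨p, rfl⟩ := hx a
  induction p using MvPolynomial.induction_on with
  | C c => simp
  | add p q hp hq => rw [map_add, map_add]; exact add_mem hp hq
  | mul_X p i hp =>
    rw [map_mul, MvPolynomial.aeval_X, Derivation.leibniz]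
    exact add_mem (Submodule.smul_mem _ _ (Submodule.subset_span ⟨i, rfl⟩)) (Submodule.smul_mem _ _ hp)

omit [Algebra.FiniteType k A] in
/-- At a smooth point some differentials of the generators form a basis nearby. -/
theorem exists_chart [Algebra.FinitePresentation k A] {n : ℕ} (x : Fin n → A)
    (hx : Function.Surjective (MvPolynomial.aeval x : MvPolynomial (Fin n) k →ₐ[k] A))
    (p : Ideal A) [p.IsPrime] [Algebra.IsSmoothAt k p] :
    ∃ g : A, g ∉ p ∧ ∃ (κ : Type) (_ : Fintype κ) (a : κ → Fin n)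
      (b : Module.Basis κ (Localization.Away g) Ω[Localization.Away g⁄k]),
      ∀ l, b l = D k (Localization.Away g) (algebraMap A (Localization.Away g) (x (a l))) := by
  obtain ⟨f, hf, hsm⟩ := Algebra.IsSmoothAt.exists_notMem_smooth k p
  let Ap := Localization.AtPrime p
  let l₂ : Ω[A⁄k] →ₗ[A] Ω[Ap⁄k] := map k k A Ap
  have hspan : Submodule.span Ap (Set.range fun i : ULift.{u} (Fin n) => l₂ (D k A (x i.down))) = ⊤ := by
    have := span_eq_top_of_isLocalizedModule Ap p.primeCompl l₂ (v := Set.range fun i => D k A (x i)) (span_D x hx)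
    rw [← this, ← Set.range_comp]
    congr 1
    ext z
    exact ⟨fun ⟨i, hi⟩ => ⟨i.down, hi⟩, fun ⟨i, hi⟩ => ⟨⟨i⟩, hi⟩⟩
  obtain ⟨κ, a, b, hb⟩ := Module.exists_basis_of_span_of_flat _ hspan
  haveI : Finite κ := Module.Finite.finite_basis b
  obtain ⟨N, ⟨eN⟩⟩ := Finite.exists_equiv_fin κ
  let b₀ := b.reindex eN
  let a₀ : Fin N → Fin n := fun l => (a (eN.symm l)).down
  have hb₀ : ∀ l, b₀ l = l₂ (D k A (x (a₀ l))) := fun l => by
    show b₀ l = _
    rw [Module.Basis.reindex_apply, hb]
  let e : (Fin N →₀ A) →ₗ[A] Ω[A⁄k] := Finsupp.linearCombination A fun l => D k A (x (a₀ l))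
  let l₁ : (Fin N →₀ A) →ₗ[A] (Fin N →₀ Ap) := Finsupp.mapRange.linearMap (Algebra.linearMap A Ap)
  let eₚ : (Fin N →₀ Ap) →ₗ[Ap] Ω[Ap⁄k] := IsLocalizedModule.mapExtendScalars p.primeCompl l₁ l₂ Ap e
  have heq : eₚ = b₀.repr.symm := by
    ext i
    trans IsLocalizedModule.map p.primeCompl l₁ l₂ e <| l₁ <| Finsupp.single i 1
    · simp [eₚ, -IsLocalizedModule.map_apply, l₁]
    · simp [e, hb₀]
  have heₚ : Function.Bijective eₚ := heq ▸ b₀.repr.symm.bijective
  obtain ⟨g, hg, h⟩ := Module.FinitePresentation.exists_notMem_bijective e p l₁ l₂ heₚ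
  let B := Localization.Away g
  let l₁ₜ : (Fin N →₀ A) →ₗ[A] (Fin N →₀ B) := Finsupp.mapRange.linearMap (Algebra.linearMap A B)
  let l₂ₜ : Ω[A⁄k] →ₗ[A] Ω[B⁄k] := map k k A B
  rw [← IsLocalizedModule.map_bijective_iff_localizedModuleMap_bijective l₁ₜ l₂ₜ] at h
  let eₜ' : (Fin N →₀ B) →ₗ[B] Ω[B⁄k] :=
    IsLocalizedModule.mapExtendScalars (Submonoid.powers g) l₁ₜ l₂ₜ B e
  refine ⟨g, hg, Fin N, inferInstance, a₀, .ofRepr (LinearEquiv.ofBijective eₜ' h).symm, fun i => ?_⟩
  simp +zetaDelta [IsLocalizedModule.map_linearCombination]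

/-- The family of hyperplanes tangent somewhere in a chart is not dense. -/
theorem exists_good_poly {B : Type u} [CommRing B] [Algebra k B] [Algebra.FiniteType k B] {n r : ℕ}
    (hB : ringKrullDim B ≤ r) (x : Fin n → B) {κ : Type} [Fintype κ] (hκ : Fintype.card κ = r)
    (a : κ → Fin n) (ha : Function.Injective a) (c : Fin n → κ → B)
    (hdiag : ∀ l, c (a l) l = 1) (hoff : ∀ l l', l' ≠ l → c (a l') l = 0) :
    ∃ G : MvPolynomial (Fin (n + 1)) k, G ≠ 0 ∧ ∀ α : Fin (n + 1) → k, MvPolynomial.eval α G ≠ 0 →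
      Ideal.span (Set.range (fun l => ∑ i, algebraMap k B (α i.succ) * c i l) ∪
        {algebraMap k B (α 0) + ∑ i, algebraMap k B (α i.succ) * x i}) = ⊤ := by
  classical
  haveI : IsNoetherianRing B := Algebra.FiniteType.isNoetherianRing k B
  let J : Finset (Fin n) := Finset.univ.image a
  let D' := MvPolynomial {i : Fin n // i ∉ J} B
  let T : Fin n → D' := fun i => if h : i ∈ J then 0 else MvPolynomial.X ⟨i, h⟩
  have hT : ∀ l, T (a l) = 0 := fun l => dif_pos (Finset.mem_image_of_mem a (Finset.mem_univ l))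
  let V : Fin n → D' := fun i => T i - ∑ l, if a l = i then ∑ j, T j * algebraMap B D' (c j l) else 0
  let ψ : MvPolynomial (Fin (n + 1)) k →ₐ[k] D' :=
    MvPolynomial.aeval (Fin.cons (-∑ i, V i * algebraMap B D' (x i)) V)
  have hker : ∃ G, G ≠ 0 ∧ ψ G = 0 := by
    by_contra hcon
    push Not at hcon
    have hdimD : ringKrullDim D' ≤ (n : ℕ) := by
      rw [MvPolynomial.ringKrullDim_of_isNoetherianRing, Nat.card_eq_fintype_card, Fintype.card_subtype_compl,
        Fintype.card_fin, Fintype.card_coe, Finset.card_image_of_injective _ ha, Finset.card_univ, hκ]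
      have hrn : r ≤ n := hκ ▸ (Fintype.card_le_of_injective a ha).trans (Fintype.card_fin n).le
      calc ringKrullDim B + ((n - r : ℕ) : WithBot ℕ∞) ≤ (r : WithBot ℕ∞) + ((n - r : ℕ) : WithBot ℕ∞) :=
            add_le_add_left hB _
        _ = _ := by rw [← Nat.cast_add, Nat.add_sub_cancel' hrn]
    obtain ⟨Q, hQ, hdis⟩ := Ideal.exists_le_prime_disjoint (⊥ : Ideal D')
      ((nonZeroDivisors (MvPolynomial (Fin (n + 1)) k)).map ψ) (by
        rw [Set.disjoint_left]
        rintro z hz ⟨G, hG, rfl⟩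
        exact hcon G (nonZeroDivisors.ne_zero hG) hz)
    haveI : Algebra.FiniteType k D' := Algebra.FiniteType.trans (S := B) inferInstance inferInstance
    haveI := hQ.1
    let φ : MvPolynomial (Fin (n + 1)) k →ₐ[k] D' ⧸ Q := (Ideal.Quotient.mkₐ k Q).comp ψ
    have hφ : Function.Injective φ := by
      rw [injective_iff_map_eq_zero]
      intro G hG
      by_contra hne
      exact Set.disjoint_left.1 hdis.2 (Ideal.Quotient.eq_zero_iff_mem.1 hG)
        ⟨G, mem_nonZeroDivisors_of_ne_zero hne, rfl⟩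
    have h1 := trdeg_le_of_injective φ hφ
    rw [VarDim.trdeg_mvPolynomial k, VarDim.trdeg_eq_tdeg k (D' ⧸ Q)] at h1
    have h2 : ((VarDim.tdeg k (D' ⧸ Q) : ℕ) : WithBot ℕ∞) ≤ (n : ℕ) :=
      (VarDim.ringKrullDim_eq_tdeg k (D' ⧸ Q)).ge.trans ((ringKrullDim_quotient_le Q).trans hdimD)
    have h1' : n + 1 ≤ VarDim.tdeg k (D' ⧸ Q) := by exact_mod_cast h1
    have h2' : VarDim.tdeg k (D' ⧸ Q) ≤ n := by exact_mod_cast h2
    omega
  obtain ⟨G, hG0, hG⟩ := hker
  refine ⟨G, hG0, fun α hα => ?_⟩
  by_contra hne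
  obtain ⟨M, hM, hle⟩ := Ideal.exists_le_maximal _ hne
  let ev : D' →ₐ[B] B ⧸ M := MvPolynomial.aeval fun i => algebraMap k (B ⧸ M) (α i.1.succ)
  have hβ : ∀ l, ∑ i, algebraMap k (B ⧸ M) (α i.succ) * Ideal.Quotient.mk M (c i l) = 0 := by
    intro l
    have := Ideal.Quotient.eq_zero_iff_mem.2 (hle (Ideal.subset_span (Or.inl ⟨l, rfl⟩)))
    simpa [map_sum, map_mul] using this
  have hh : algebraMap k (B ⧸ M) (α 0) + ∑ i, algebraMap k (B ⧸ M) (α i.succ) * Ideal.Quotient.mk M (x i) = 0 := by
    have := Ideal.Quotient.eq_zero_iff_mem.2 (hle (Ideal.subset_span (Or.inr rfl)))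
    simpa [map_sum, map_mul, map_add] using this
  have hevB : ∀ z : B, ev (algebraMap B D' z) = Ideal.Quotient.mk M z := fun z => ev.commutes z
  have hevT : ∀ i, ev (T i) = if i ∈ J then 0 else algebraMap k (B ⧸ M) (α i.succ) := by
    intro i
    simp only [T]
    split_ifs with h
    · exact map_zero _
    · exact MvPolynomial.aeval_X _ _
  have hsum : ∀ l, ∑ j, ev (T j) * Ideal.Quotient.mk M (c j l) = -algebraMap k (B ⧸ M) (α (a l).succ) := by
    intro l
    rw [eq_neg_iff_add_eq_zero, ← hβ l]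
    conv_rhs => rw [← Finset.sum_filter_add_sum_filter_not _ (fun j => j ∈ J)]
    have h1 : ∑ j ∈ Finset.univ.filter (fun j => j ∈ J), algebraMap k (B ⧸ M) (α j.succ) * Ideal.Quotient.mk M (c j l) =
        algebraMap k (B ⧸ M) (α (a l).succ) := by
      rw [Finset.filter_univ_mem, Finset.sum_image (fun _ _ _ _ h => ha h), Finset.sum_eq_single l]
      · rw [hdiag, map_one, mul_one]
      · intro l' _ hne
        rw [hoff l l' hne, map_zero, mul_zero]
      · simp
    rw [h1, add_comm]
    congr 1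
    rw [Finset.sum_filter]
    refine Finset.sum_congr rfl fun j _ => ?_
    rw [hevT]
    split_ifs <;> simp_all
  have hV : ∀ i, ev (V i) = algebraMap k (B ⧸ M) (α i.succ) := by
    intro i
    simp only [V, map_sub, map_sum, apply_ite ev, map_zero, map_mul, hevB, hsum]
    rw [hevT]
    by_cases hi : i ∈ J
    · obtain ⟨l, -, rfl⟩ := Finset.mem_image.1 hi
      rw [if_pos hi, Finset.sum_eq_single l (fun l' _ hne => if_neg fun h => hne (ha h)) (by simp), if_pos rfl]
      ring
    · rw [if_neg hi, Finset.sum_eq_zero fun l _ => if_neg fun h => hi (by rw [← h]; exact Finset.mem_image_of_mem a (Finset.mem_univ l)),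
        sub_zero]
  have hcomp : (ev.restrictScalars k).comp ψ =
      (Algebra.ofId k (B ⧸ M)).comp (MvPolynomial.aeval α : MvPolynomial (Fin (n + 1)) k →ₐ[k] k) := by
    refine MvPolynomial.algHom_ext fun j => ?_
    refine Fin.cases ?_ (fun i => ?_) j
    · show ev (ψ (MvPolynomial.X 0)) = algebraMap k (B ⧸ M) (MvPolynomial.aeval α (MvPolynomial.X 0))
      simp only [ψ, MvPolynomial.aeval_X, Fin.cons_zero, map_neg, map_sum, map_mul, hevB, hV]
      rw [neg_eq_iff_add_eq_zero, add_comm]
      exact hh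
    · show ev (ψ (MvPolynomial.X i.succ)) = algebraMap k (B ⧸ M) (MvPolynomial.aeval α (MvPolynomial.X i.succ))
      simp only [ψ, MvPolynomial.aeval_X, Fin.cons_succ, hV]
  have h0 := AlgHom.congr_fun hcomp G
  simp only [AlgHom.comp_apply, hG, map_zero] at h0
  haveI := hM
  exact hα ((algebraMap k (B ⧸ M)).injective (by rw [map_zero]; exact h0.symm))

/-- A hypersurface section with unit partial derivative is standard smooth. -/
theorem hypersurface {C : Type u} [CommRing C] [Algebra k C] [Algebra.FinitePresentation k C]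
    [Algebra.FormallySmooth k C] {κ : Type} [Fintype κ] (b : Module.Basis κ C Ω[C⁄k]) (y : κ → C)
    (hb : ∀ l, b l = D k C (y l)) (h : C) (l₀ : κ) (hu : IsUnit (b.repr (D k C h) l₀))
    [Nontrivial (C ⧸ Ideal.span {h})] :
    Algebra.IsStandardSmoothOfRelativeDimension (Fintype.card κ - 1) k (C ⧸ Ideal.span {h}) := by
  classical
  let I := Ideal.span {h}
  let Q := C ⧸ I
  have hs : Function.Surjective (algebraMap C Q) := Ideal.Quotient.mk_surjective
  let bQ : Module.Basis κ Q (Q ⊗[C] Ω[C⁄k]) := b.baseChange Q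
  have hrepr : ∀ (z : Q) (w : Ω[C⁄k]) (l : κ), bQ.repr (z ⊗ₜ[C] w) l = z * algebraMap C Q (b.repr w l) := by
    intro z w l
    rw [Module.Basis.baseChange_repr_tmul, Algebra.smul_def, mul_comm]
  obtain ⟨v, hv⟩ := hu
  have hmemh : h ∈ RingHom.ker (algebraMap C Q) :=
    Ideal.Quotient.eq_zero_iff_mem.2 (Ideal.subset_span rfl)
  let hc : (RingHom.ker (algebraMap C Q)).Cotangent := Ideal.toCotangent _ ⟨h, hmemh⟩
  haveI : Algebra.FormallySmooth k Q := by
    rw [Algebra.FormallySmooth.iff_split_injection hs]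
    have hI : I ≤ LinearMap.ker (LinearMap.toSpanSingleton C _ ((v⁻¹ : Cˣ).1 • hc)) := by
      intro z hz
      rw [LinearMap.mem_ker, LinearMap.toSpanSingleton_apply, smul_smul, mul_comm, ← smul_smul]
      refine (congrArg ((v⁻¹ : Cˣ).1 • ·) ?_).trans (smul_zero _)
      show z • Ideal.toCotangent _ ⟨h, hmemh⟩ = 0
      rw [← map_smul, Ideal.toCotangent_eq_zero]
      show z * h ∈ RingHom.ker (algebraMap C Q) ^ 2
      rw [pow_two]
      exact Ideal.mul_mem_mul (Ideal.Quotient.eq_zero_iff_mem.2 hz) hmemh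
    refine ⟨(Submodule.liftQ I _ hI : Q →ₗ[C] _).comp ((bQ.coord l₀).restrictScalars C),
      LinearMap.ext fun z => ?_⟩
    obtain ⟨⟨z, hz⟩, rfl⟩ := Ideal.toCotangent_surjective _ z
    obtain ⟨d, rfl⟩ := Ideal.mem_span_singleton'.1 (Ideal.Quotient.eq_zero_iff_mem.1 hz)
    have hcoord : bQ.coord l₀ ((1 : Q) ⊗ₜ[C] D k C (d * h)) = algebraMap C Q (d * v.1) := by
      have h0 : algebraMap C Q h = 0 := hmemh
      rw [Module.Basis.coord_apply, hrepr, one_mul, Derivation.leibniz, map_add, map_smul, map_smul,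
        Finsupp.add_apply, Finsupp.smul_apply, Finsupp.smul_apply, smul_eq_mul, smul_eq_mul, ← hv, map_add,
        map_mul _ h, h0, zero_mul, add_zero]
    rw [LinearMap.comp_apply, kerCotangentToTensor_toCotangent, LinearMap.id_apply, LinearMap.comp_apply,
      LinearMap.restrictScalars_apply, hcoord]
    show (d * v.1) • ((v⁻¹ : Cˣ).1 • hc) = _
    rw [smul_smul, mul_assoc, Units.mul_inv, mul_one]
    exact ((RingHom.ker (algebraMap C Q)).toCotangent.map_smul d ⟨h, hmemh⟩).symm
  haveI : Algebra.FinitePresentation k Q :=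
    Algebra.FinitePresentation.quotient (R := k) (Submodule.fg_span (Set.finite_singleton h))
  haveI : Subsingleton (Algebra.H1Cotangent k Q) := inferInstance
  let π := mapBaseChange k C Q
  have hπb : ∀ l, π (bQ l) = D k Q (algebraMap C Q (y l)) := fun l => by
    show π (b.baseChange Q l) = _
    rw [Module.Basis.baseChange_apply, hb, mapBaseChange_tmul, one_smul, map_D]
  let w : Q ⊗[C] Ω[C⁄k] := (1 : Q) ⊗ₜ[C] D k C h
  have hw : π w = 0 := by
    show π ((1 : Q) ⊗ₜ[C] D k C h) = 0
    rw [mapBaseChange_tmul, one_smul, map_D, show algebraMap C Q h = 0 from hmemh, map_zero]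
  have hwl₀ : bQ.repr w l₀ = algebraMap C Q v.1 := by rw [hrepr, one_mul, hv]
  have hker : ∀ u, π u = 0 → ∃ s : Q, u = s • w := by
    intro u hu
    obtain ⟨c, rfl⟩ := (exact_kerCotangentToTensor_mapBaseChange k C Q hs u).1 hu
    obtain ⟨⟨z, hz⟩, rfl⟩ := Ideal.toCotangent_surjective _ c
    obtain ⟨d, rfl⟩ := Ideal.mem_span_singleton'.1 (Ideal.Quotient.eq_zero_iff_mem.1 hz)
    refine ⟨algebraMap C Q d, ?_⟩
    rw [kerCotangentToTensor_toCotangent]
    show (1 : Q) ⊗ₜ[C] D k C (d * h) = _
    rw [Derivation.leibniz, TensorProduct.tmul_add, TensorProduct.tmul_smul, TensorProduct.tmul_smul,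
      ← algebraMap_smul Q h, show algebraMap C Q h = 0 from hmemh, zero_smul, add_zero, ← algebraMap_smul Q d]
  let v' : {l : κ // l ≠ l₀} → Ω[Q⁄k] := fun l => D k Q (algebraMap C Q (y l.1))
  have hsum : ∀ g : κ → Q, ∑ l, g l • bQ l = g l₀ • bQ l₀ + ∑ l : {l : κ // l ≠ l₀}, g l.1 • bQ l.1 := by
    intro g
    rw [Fintype.sum_eq_add_sum_subtype_ne]
  have hli : LinearIndependent Q v' := by
    rw [Fintype.linearIndependent_iff]
    intro g hg
    let g' : κ → Q := fun l => if hl : l = l₀ then 0 else g ⟨l, hl⟩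
    have hg'0 : g' l₀ = 0 := dif_pos rfl
    have hg' : ∀ l : {l : κ // l ≠ l₀}, g' l.1 = g l := fun l => dif_neg l.2
    have h0 : π (∑ l, g' l • bQ l) = 0 := by
      rw [hsum, hg'0, zero_smul, zero_add, map_sum, ← hg]
      exact Finset.sum_congr rfl fun l _ => by rw [map_smul, hπb, hg']
    obtain ⟨s, hs'⟩ := hker _ h0
    have h1 : ∀ l, g' l = s * bQ.repr w l := fun l => by
      rw [← bQ.repr_sum_self g', hs', map_smul, Finsupp.smul_apply, smul_eq_mul]
    have hs0 : s = 0 := by
      have := h1 l₀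
      rw [hg'0, hwl₀] at this
      exact ((v.isUnit.map (algebraMap C Q)).mul_left_eq_zero).1 this.symm
    exact fun l => by rw [← hg' l, h1, hs0, zero_mul]
  have hspan : ⊤ ≤ Submodule.span Q (Set.range v') := by
    rintro z -
    obtain ⟨u, rfl⟩ := mapBaseChange_surjective k C Q hs z
    have hmem : ∀ g : κ → Q, ∑ l : {l : κ // l ≠ l₀}, g l.1 • π (bQ l.1) ∈ Submodule.span Q (Set.range v') :=
      fun g => Submodule.sum_mem _ fun l _ => Submodule.smul_mem _ _ (Submodule.subset_span ⟨l, (hπb l.1).symm⟩)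
    have hl₀ : π (bQ l₀) ∈ Submodule.span Q (Set.range v') := by
      have h0 := hw
      rw [← bQ.sum_repr w, hsum, hwl₀, map_add, map_smul, map_sum, add_eq_zero_iff_eq_neg] at h0
      simp only [map_smul] at h0
      rw [← Submodule.smul_mem_iff_of_isUnit _ (v.isUnit.map (algebraMap C Q)), h0]
      exact neg_mem (hmem fun l => bQ.repr w l)
    show π u ∈ _
    rw [← bQ.sum_repr u, map_sum]
    refine Submodule.sum_mem _ fun l _ => ?_
    rw [map_smul]
    refine Submodule.smul_mem _ _ ?_
    by_cases hl : l = l₀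
    · exact hl ▸ hl₀
    · exact Submodule.subset_span ⟨⟨l, hl⟩, (hπb l).symm⟩
  let bΩ := Module.Basis.mk hli hspan
  haveI : Algebra.IsStandardSmooth k Q :=
    Algebra.IsStandardSmooth.of_basis_kaehlerDifferential bΩ (by
      rintro _ ⟨l, rfl⟩
      exact ⟨algebraMap C Q (y l.1), (Module.Basis.mk_apply hli hspan l).symm⟩)
  rw [Algebra.IsStandardSmoothOfRelativeDimension.iff_of_isStandardSmooth]
  rw [rank_eq_card_basis bΩ, Fintype.card_subtype_compl, Fintype.card_subtype_eq]

end Groth.Agent.BertiniAff5
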